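import Cfsg.Agent.Components.Sfour.LocalThree
import Cfsg.Agent.Components.Misc.InvolvesDihedral
import Cfsg.Agent.Components.Misc.SmallOffender
import Cfsg.Agent.Fusion.QdTwo

/-!
Criteria for the absence of sections `S₃` and `S₄`.
-/

set_option autoImplicit false
set_option linter.style.haveILetI false
set_option linter.unusedSectionVars false

namespace Cfsg.Lib.GoldschmidtSFour

open Subgroup

universe u v

variable {G : Type u} [Group G] [Finite G]

/-- A section `S₃` gives an element of order three inverted by a `2`-element. -/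
theorem inverted_of_involves (h : Cfsg.Involves (Equiv.Perm (Fin 3)) G) :
    ∃ x y : G, (∃ k : ℕ, orderOf x = 2 ^ k) ∧ orderOf y = 3 ∧ x * y * x⁻¹ = y⁻¹ := by
  classical
  haveI : Fact (Nat.Prime 3) := ⟨Nat.prime_three⟩
  obtain ⟨e⟩ := Cfsg.Lib.SmallOffender.exists_dihEquiv
  obtain ⟨x, y, hx, ⟨k, hk⟩, hy1, hxy⟩ :=
    ((Cfsg.Lib.InvolvesDihedral.involves_dihedral_iff (G := G) (p := 3) (by norm_num)).2).1
      (Cfsg.Lib.Fusion.QdTwo.involves_congr e.symm h)
  rcases k with _ | k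
  · exact absurd (orderOf_eq_one_iff.1 (by rw [hk, pow_zero])) hy1
  refine ⟨x, y ^ 3 ^ k, hx, ?_, by rw [← conj_pow, hxy, inv_pow]⟩
  rw [orderOf_pow_of_dvd (pow_ne_zero _ (by norm_num)) (hk ▸ pow_dvd_pow 3 k.le_succ), hk, pow_succ,
    Nat.mul_div_cancel_left _ (pow_pos (by norm_num) k)]

/-- An element of order three conjugate to its inverse gives a section `S₃`. -/
theorem involves_of_real {x y : G} (hy : orderOf y = 3) (hxy : x * y * x⁻¹ = y⁻¹) :
    Cfsg.Involves (Equiv.Perm (Fin 3)) G := by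
  haveI : Fact (Nat.Prime 3) := ⟨Nat.prime_three⟩
  obtain ⟨e⟩ := Cfsg.Lib.SmallOffender.exists_dihEquiv
  refine Cfsg.Lib.Fusion.QdTwo.involves_congr e ?_
  refine Cfsg.Lib.InvolvesDihedral.involves_of_inverting (by norm_num) x y ⟨1, by rw [pow_one, hy]⟩ ?_ hxy
  intro h
  rw [h, orderOf_one] at hy
  omega

theorem not_involves_three_of_card (h : ¬ 3 ∣ Nat.card G) : ¬ Cfsg.Involves (Equiv.Perm (Fin 3)) G := by
  intro hi
  obtain ⟨x, y, -, hy, -⟩ := inverted_of_involves hi
  exact h (hy ▸ orderOf_dvd_natCard y)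

/-- A section `S₄` gives a section `S₃`. -/
theorem three_of_four (h : Cfsg.Involves (Equiv.Perm (Fin 4)) G) : Cfsg.Involves (Equiv.Perm (Fin 3)) G := by
  obtain ⟨T, -, hi⟩ := Cfsg.Lib.Sfour.local_of_involves_four h
  exact Cfsg.Lib.QdFree.involves_of_injective (normalizer (T : Set G)).subtype_injective
    (Cfsg.Lib.QuadPair.involves_of_surjective (QuotientGroup.mk'_surjective _) hi)

/-- A group with a normal Sylow `2`-subgroup has no section `S₃`. -/
theorem not_involves_three_of_closed {X : Type v} [Group X] [Finite X] (S : Sylow 2 X)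
    [hS : (S : Subgroup X).Normal] : ¬ Cfsg.Involves (Equiv.Perm (Fin 3)) X := by
  haveI : Fact (Nat.Prime 2) := ⟨Nat.prime_two⟩
  intro hi
  obtain ⟨x, y, ⟨k, hk⟩, hy, hxy⟩ := inverted_of_involves hi
  have hxS : x ∈ (S : Subgroup X) := by
    haveI := Sylow.unique_of_normal S hS
    obtain ⟨P, hP⟩ := ((IsPGroup.of_card (G := zpowers x) (p := 2) (n := k) (by rw [Nat.card_zpowers, hk]))).exists_le_sylow
    rw [Subsingleton.elim S P]
    exact hP (mem_zpowers x)
  have hc : y * y ∈ (S : Subgroup X) := by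
    have h1 : x * (y * x⁻¹ * y⁻¹) ∈ (S : Subgroup X) :=
      mul_mem hxS (hS.conj_mem _ (inv_mem hxS) y)
    have h2 : x * (y * x⁻¹ * y⁻¹) = (y * y)⁻¹ := by
      rw [show x * (y * x⁻¹ * y⁻¹) = (x * y * x⁻¹) * y⁻¹ by group, hxy]; group
    rw [h2] at h1
    exact inv_mem_iff.1 h1
  have hy3 : y ^ 3 = 1 := hy ▸ pow_orderOf_eq_one y
  have hyS : y ∈ (S : Subgroup X) := by
    have : y = (y * y) * (y * y) := by
      calc y = y * y ^ 3 := by rw [hy3, mul_one]
        _ = (y * y) * (y * y) := by simp only [pow_succ, pow_zero, one_mul, mul_assoc]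
    rw [this]
    exact mul_mem hc hc
  obtain ⟨j, hj⟩ := IsPGroup.iff_orderOf.1 S.2 ⟨y, hyS⟩
  rw [orderOf_mk, hy] at hj
  rcases j with _ | j
  · simp at hj
  · rw [pow_succ] at hj
    omega

/-- `S₄` is not involved if the normaliser of each nontrivial `2`-subgroup is `2`-closed. -/
theorem not_involves_four_of_closed
    (h : ∀ T : Subgroup G, IsPGroup 2 T → T ≠ ⊥ →
      ∃ S : Sylow 2 G, normalizer (T : Set G) ≤ normalizer ((S : Subgroup G) : Set G)) :
    ¬ Cfsg.Involves (Equiv.Perm (Fin 4)) G := by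
  haveI : Fact (Nat.Prime 2) := ⟨Nat.prime_two⟩
  intro hi
  obtain ⟨T, hT, h3⟩ := Cfsg.Lib.Sfour.local_of_involves_four hi
  have hT1 : T ≠ ⊥ := by
    rintro rfl
    obtain ⟨x, y, -, hy, -⟩ := inverted_of_involves h3
    have : y = 1 := by
      induction y using QuotientGroup.induction_on with
      | H z =>
        refine (QuotientGroup.eq_one_iff z).2 (mem_subgroupOf.2 (mem_centralizer_iff.2 fun t ht => ?_))
        rw [(mem_bot.1 ht : t = 1), one_mul, mul_one]
    rw [this, orderOf_one] at hy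
    omega
  obtain ⟨S, hS⟩ := h T hT hT1
  have h4 : Cfsg.Involves (Equiv.Perm (Fin 3)) (normalizer ((S : Subgroup G) : Set G)) :=
    Cfsg.Lib.QdFree.involves_of_injective (Subgroup.inclusion_injective hS)
      (Cfsg.Lib.QuadPair.involves_of_surjective (QuotientGroup.mk'_surjective _) h3)
  haveI : ((S.subtype le_normalizer : Sylow 2 (normalizer ((S : Subgroup G) : Set G))) :
      Subgroup (normalizer ((S : Subgroup G) : Set G))).Normal := by
    rw [Sylow.coe_subtype]
    exact normal_in_normalizer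
  exact not_involves_three_of_closed (S.subtype le_normalizer) h4

/-- Groups with abelian Sylow `2`-subgroups have no section `S₄`. -/
theorem not_involves_four_of_abelian (S : Sylow 2 G)
    (hS : ∀ a ∈ (S : Subgroup G), ∀ b ∈ (S : Subgroup G), a * b = b * a) :
    ¬ Cfsg.Involves (Equiv.Perm (Fin 4)) G := by
  haveI : Fact (Nat.Prime 2) := ⟨Nat.prime_two⟩
  intro hi
  obtain ⟨T, hT, h3⟩ := Cfsg.Lib.Sfour.local_of_involves_four hi
  obtain ⟨x, y, ⟨k, hk⟩, hy, hxy⟩ := inverted_of_involves h3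
  obtain ⟨x₀, hx₀⟩ := QuotientGroup.mk'_surjective _ x
  -- the 2-part of a preimage commutes with `T`
  obtain ⟨a, b, ⟨i, hi'⟩, hb, hab, hao, hbo⟩ := Cfsg.Lib.Transfer.exists_pPart 2 x₀
  have hao' : ∃ j : ℕ, orderOf (a : G) = 2 ^ j := by
    obtain ⟨j, hj⟩ := hao
    exact ⟨j, by rw [orderOf_coe, hj]⟩
  obtain ⟨j, hj⟩ := hao'
  have hA : IsPGroup 2 (zpowers (a : G)) := IsPGroup.of_card (n := j) (by rw [Nat.card_zpowers, hj])
  have hP : IsPGroup 2 ↥(zpowers (a : G) ⊔ T) :=
    hA.to_sup_of_normal_right' hT (zpowers_le.2 a.2)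
  obtain ⟨P, hP'⟩ := hP.exists_le_sylow
  obtain ⟨g, hg⟩ := MulAction.exists_smul_eq G S P
  have hcomm : ∀ t ∈ T, t * (a : G) = (a : G) * t := by
    intro t ht
    have h1 : t ∈ (P : Subgroup G) := hP' (mem_sup_right ht)
    have h2 : (a : G) ∈ (P : Subgroup G) := hP' (mem_sup_left (mem_zpowers _))
    rw [← hg, Sylow.coe_subgroup_smul, mem_smul_pointwise_iff_exists] at h1 h2
    obtain ⟨s1, hs1, e1⟩ := h1
    obtain ⟨s2, hs2, e2⟩ := h2
    rw [← e1, ← e2]
    simp only [MulAut.smul_def, ← map_mul]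
    exact congrArg _ (hS s1 hs1 s2 hs2)
  have ha1 : QuotientGroup.mk' ((centralizer (T : Set G)).subgroupOf (normalizer (T : Set G))) a = 1 :=
    (QuotientGroup.eq_one_iff a).2 (mem_subgroupOf.2 (mem_centralizer_iff.2 hcomm))
  have hx1 : x = 1 := by
    have hbx : QuotientGroup.mk' ((centralizer (T : Set G)).subgroupOf (normalizer (T : Set G))) b = x := by
      rw [← hx₀, ← hab, map_mul, ha1, one_mul]
    have hd := orderOf_map_dvd (QuotientGroup.mk' ((centralizer (T : Set G)).subgroupOf (normalizer (T : Set G)))) b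
    rw [hbx, hk] at hd
    exact orderOf_eq_one_iff.1 (by
      rw [hk]; exact Nat.eq_one_of_dvd_coprimes (Nat.Coprime.pow_left k hbo.symm) dvd_rfl hd)
  rw [hx1, one_mul, inv_one, mul_one] at hxy
  have h2 : y ^ 2 = 1 := by rw [pow_two]; nth_rw 2 [hxy]; exact mul_inv_cancel y
  have := hy ▸ orderOf_dvd_of_pow_eq_one h2
  omega

/-- Transport along an isomorphism. -/
theorem not_involves_equiv {X : Type v} [Group X] {Y : Type*} [Group Y] (e : G ≃* X)
    (h : ¬ Cfsg.Involves Y X) : ¬ Cfsg.Involves Y G :=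
  fun hi => h (Cfsg.Lib.QdFree.involves_of_injective (f := e.toMonoidHom) e.injective hi)

theorem involves_equiv {X : Type v} [Group X] {Y : Type*} [Group Y] (e : G ≃* X)
    (h : Cfsg.Involves Y X) : Cfsg.Involves Y G :=
  Cfsg.Lib.QdFree.involves_of_injective (f := e.symm.toMonoidHom) e.symm.injective h

end Cfsg.Lib.GoldschmidtSFour
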