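import Cfsg.Agent.GoldschmidtSFour.Basic
import Cfsg.Agent.WeakClosureJOne.JOne

/-!
Janko's first group: abelian Sylow `2`-subgroups and a section `S₃`.
-/

set_option autoImplicit false
set_option linter.style.haveILetI false
set_option linter.unusedSectionVars false

namespace Cfsg.Lib.GoldschmidtSFour

open Subgroup Cfsg.Lib.Janko

universe u

theorem alt_five_comm : ∀ a b : alternatingGroup (Fin 5), a * a = 1 → b * b = 1 → a * b * (a * b) = 1 →
    a * b = b * a := by
  intro a b ha hb hab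
  calc a * b = (a * b)⁻¹ := (inv_eq_of_mul_eq_one_right hab).symm
    _ = b * a := by rw [mul_inv_rev, inv_eq_of_mul_eq_one_right ha, inv_eq_of_mul_eq_one_right hb]

theorem alt_five_two : ∀ a : alternatingGroup (Fin 5), a ^ 8 = 1 → a * a = 1 := by decide +kernel

variable {L : Type u} [Group L]

theorem jOne_sylow_comm (h : Cfsg.Spor.IsoJ1 L) [Finite L] :
    ∃ S : Sylow 2 L, ∀ a ∈ (S : Subgroup L), ∀ b ∈ (S : Subgroup L), a * b = b * a := by
  classical
  haveI : Fact (Nat.Prime 2) := ⟨Nat.prime_two⟩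
  haveI := finite_J
  obtain ⟨f⟩ := Cfsg.Lib.Janko.centralizer_equiv
  obtain ⟨e⟩ := h
  set C := centralizer ({tJ} : Set J) with hC
  have h120 : Nat.card C = 120 := by
    rw [Nat.card_congr f.toEquiv, Nat.card_eq_fintype_card]; decide +kernel
  obtain ⟨P⟩ : Nonempty (Sylow 2 C) := inferInstance
  have hP : Nat.card (P : Subgroup C) = 2 ^ 3 := by
    rw [P.card_eq_multiplicity, h120, show (120 : ℕ) = 2 ^ 3 * 15 by norm_num,
      Nat.factorization_mul (by norm_num) (by norm_num), Nat.Prime.factorization_pow Nat.prime_two]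
    simp [Nat.factorization_eq_zero_of_not_dvd (show ¬ 2 ∣ 15 by norm_num)]
  let S₀ : Subgroup J := (P : Subgroup C).map C.subtype
  let S₁ : Subgroup L := S₀.map e.symm.toMonoidHom
  have hcard : Nat.card S₁ = 2 ^ 3 := by
    rw [card_map_of_injective e.symm.injective, card_map_of_injective C.subtype_injective, hP]
  have hfac : (Nat.card L).factorization 2 = 3 := by
    rw [Cfsg.Lib.WeakJOne.jOne_card ⟨e⟩, show (175560 : ℕ) = 2 ^ 3 * 21945 by norm_num,
      Nat.factorization_mul (by norm_num) (by norm_num), Nat.Prime.factorization_pow Nat.prime_two]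
    simp [Nat.factorization_eq_zero_of_not_dvd (show ¬ 2 ∣ 21945 by norm_num)]
  refine ⟨Sylow.ofCard S₁ (by rw [hcard, hfac]), ?_⟩
  have hcomm : ∀ a ∈ (P : Subgroup C), ∀ b ∈ (P : Subgroup C), a * b = b * a := by
    have h8 : ∀ c ∈ (P : Subgroup C), (f c).2 * (f c).2 = 1 := by
      intro c hc
      refine alt_five_two _ ?_
      have h1 : (⟨c, hc⟩ : (P : Subgroup C)) ^ 2 ^ 3 = 1 := by rw [← hP]; exact pow_card_eq_one'
      rw [← Prod.pow_snd, ← map_pow, show c ^ 8 = 1 from congrArg Subtype.val h1, map_one, Prod.snd_one]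
    intro a ha b hb
    refine f.injective (Prod.ext ?_ ?_)
    · simp only [map_mul, Prod.fst_mul]
      exact mul_comm _ _
    · simp only [map_mul, Prod.snd_mul]
      exact alt_five_comm _ _ (h8 a ha) (h8 b hb) (by
        have := h8 _ (mul_mem ha hb); simpa only [map_mul, Prod.snd_mul] using this)
  intro a ha b hb
  change a ∈ S₁ at ha
  change b ∈ S₁ at hb
  obtain ⟨_, ⟨a, ha', rfl⟩, rfl⟩ := ha
  obtain ⟨_, ⟨b, hb', rfl⟩, rfl⟩ := hb
  rw [← map_mul, ← map_mul, ← map_mul, ← map_mul, hcomm a ha' b hb']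

theorem jOne_involves_three (h : Cfsg.Spor.IsoJ1 L) [Finite L] : Cfsg.Involves (Equiv.Perm (Fin 3)) L := by
  haveI := finite_J
  obtain ⟨f⟩ := Cfsg.Lib.Janko.centralizer_equiv
  obtain ⟨e⟩ := h
  let x : alternatingGroup (Fin 5) :=
    ⟨Equiv.swap 0 1 * Equiv.swap 1 2, Equiv.Perm.mem_alternatingGroup.2 (by decide +kernel)⟩
  let a : alternatingGroup (Fin 5) :=
    ⟨Equiv.swap 0 1 * Equiv.swap 3 4, Equiv.Perm.mem_alternatingGroup.2 (by decide +kernel)⟩
  let ι : alternatingGroup (Fin 5) →* L :=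
    e.symm.toMonoidHom.comp ((centralizer ({tJ} : Set J)).subtype.comp (f.symm.toMonoidHom.comp (MonoidHom.inr _ _)))
  have hinj : Function.Injective ι :=
    e.symm.injective.comp (Subtype.val_injective.comp (f.symm.injective.comp fun y z hyz => congrArg Prod.snd hyz))
  haveI : Fact (Nat.Prime 3) := ⟨Nat.prime_three⟩
  have hx3 : x ^ 3 = 1 := by decide +kernel
  have hx1 : x ≠ 1 := by decide +kernel
  have hax : a * x * a⁻¹ = x⁻¹ := by decide +kernel
  refine involves_of_real (x := ι a) (y := ι x) ?_ (by rw [← map_inv, ← map_inv, ← map_mul, ← map_mul, hax])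
  rw [orderOf_injective ι hinj]
  exact orderOf_eq_prime hx3 hx1

end Cfsg.Lib.GoldschmidtSFour
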