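import Cfsg.Agent.GoldschmidtSFour.Basic
import Cfsg.Agent.Fusion.SimpleUnitaryThree
import Cfsg.Agent.SuzukiTwo.Unitary

/-!
`PSU₃(2^n)`: a section `S₃`, and `2`-closed centralisers of involutions.
-/

set_option autoImplicit false
set_option linter.style.haveILetI false
set_option linter.unusedSectionVars false

namespace Cfsg.Lib.GoldschmidtSFour

open Subgroup
open scoped MatrixGroups Matrix

universe u

variable {F : Type u} [Field F] [Fintype F]

section Linear

variable [CharP F 2]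

local notation "V3" => (Fin 3 → F)

/-- `2`-elements commuting with an involution of `SL₃(F)` form a set whose products have order dividing four. -/
theorem sl_three_product (i g h : SL(3, F)) (hi : i * i = 1) (hi1 : i ≠ 1) (hg : g * i = i * g)
    (hh : h * i = i * h) {a b : ℕ} (hga : g ^ 2 ^ a = 1) (hhb : h ^ 2 ^ b = 1) : (g * h) ^ 4 = 1 := by
  classical
  let ψ : SL(3, F) →* Module.End F V3 :=
    (Matrix.toLinAlgEquiv' : Matrix (Fin 3) (Fin 3) F ≃ₐ[F] Module.End F V3).toMonoidHom.comp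
      (Cfsg.slToMat 3 F)
  have hψinj : Function.Injective ψ := fun x y e =>
    Subtype.ext ((Matrix.toLinAlgEquiv' : Matrix (Fin 3) (Fin 3) F ≃ₐ[F] Module.End F V3).injective e)
  have happ : ∀ (x y : SL(3, F)) (v : V3), ψ (x * y) v = ψ x (ψ y v) := fun x y v => by
    rw [map_mul, Module.End.mul_apply]
  have hone : ∀ v : V3, ψ 1 v = v := fun v => by rw [map_one, Module.End.one_apply]
  have hdouble : ∀ v : V3, v + v = 0 := fun v => funext fun k => CharTwo.add_self_eq_zero (v k)
  set N : Module.End F V3 := ψ i - 1 with hNdef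
  have hNapp : ∀ v, N v = ψ i v - v := fun v => rfl
  have hNN : ∀ v, N (N v) = 0 := by
    intro v
    rw [hNapp (N v), hNapp v, map_sub, ← happ, hi, hone]
    calc v - ψ i v - (ψ i v - v) = (v + v) - (ψ i v + ψ i v) := by abel
      _ = 0 := by rw [hdouble, hdouble, sub_zero]
  have hN1 : N ≠ 0 := fun e => hi1 (hψinj (by rw [map_one]; exact sub_eq_zero.1 e))
  set L := LinearMap.range N with hL
  set P := LinearMap.ker N with hP
  have hLP : L ≤ P := by
    rintro _ ⟨v, rfl⟩
    exact hNN v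
  have hrn := LinearMap.finrank_range_add_finrank_ker N
  rw [Module.finrank_fin_fun, ← hL, ← hP] at hrn
  have h12 := Submodule.finrank_mono hLP
  have hL0 : L ≠ ⊥ := fun e => hN1 (LinearMap.range_eq_bot.1 e)
  have hL1 : 1 ≤ Module.finrank F L := by
    rw [Nat.one_le_iff_ne_zero, ne_eq, Submodule.finrank_eq_zero]; exact hL0
  have hd1 : Module.finrank F L = 1 := by omega
  have hd2 : Module.finrank F P = 2 := by omega
  -- a 2-element commuting with `i` is unipotent on the flag
  have key : ∀ (x : SL(3, F)) (c : ℕ), x * i = i * x → x ^ 2 ^ c = 1 →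
      (∀ w ∈ L, ψ x w = w) ∧ (∀ p ∈ P, ψ x p - p ∈ L) ∧ (∀ v, ψ x v - v ∈ P) := by
    intro x c hx hxc
    set M : Module.End F V3 := ψ x - 1 with hMdef
    have hMapp : ∀ v, M v = ψ x v - v := fun v => rfl
    have hMnil : M ^ 2 ^ c = 0 := by
      haveI : Fact (Nat.Prime 2) := ⟨Nat.prime_two⟩
      haveI : CharP (Module.End F V3) 2 := charP_of_injective_algebraMap
        (algebraMap F (Module.End F V3)).injective 2
      rw [hMdef, sub_pow_char_pow_of_commute _ _ (Commute.one_right _), one_pow, ← map_pow, hxc, map_one, sub_self]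
    have hMN : ∀ v, M (N v) = N (M v) := by
      intro v
      simp only [hMapp, hNapp, map_sub, ← happ, hx]
      abel
    have hnil : ∀ (b : F) (v : V3), v = b • M v → v = 0 := by
      intro b v hv
      have : ∀ k : ℕ, v = b ^ k • (M ^ k) v := by
        intro k
        induction k with
        | zero => simp
        | succ k ih =>
          calc v = b ^ k • (M ^ k) v := ih
            _ = b ^ k • (M ^ k) (b • M v) := by rw [← hv]
            _ = b ^ (k + 1) • (M ^ (k + 1)) v := by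
              rw [map_smul, smul_smul, ← Module.End.mul_apply, ← pow_succ, ← pow_succ]
      rw [this (2 ^ c), hMnil, LinearMap.zero_apply, smul_zero]
    have h1 : ∀ w ∈ L, M w = 0 := by
      intro w hw
      by_contra hw0
      have hMw : M w ∈ L := by
        obtain ⟨v, rfl⟩ := hw
        exact ⟨M v, (hMN v).symm⟩
      obtain ⟨e, he⟩ := exists_smul_eq_of_finrank_eq_one hd1 (x := (⟨M w, hMw⟩ : L))
        (fun e => hw0 (congrArg Subtype.val e)) ⟨w, hw⟩
      have he' : e • M w = w := congrArg Subtype.val he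
      refine hw0 ?_
      rw [hnil e w he'.symm, map_zero]
    have h3 : ∀ v, M v ∈ P := fun v => by
      rw [hP, LinearMap.mem_ker, ← hMN]
      exact h1 _ ⟨v, rfl⟩
    have h2 : ∀ p ∈ P, M p ∈ L := by
      intro p hp
      by_contra hq
      obtain ⟨w, hw, hw0⟩ := (Submodule.ne_bot_iff _).1 hL0
      have hli : LinearIndependent F ![w, M p] := by
        refine LinearIndependent.pair_iff.2 fun s t hst => ?_
        by_cases ht : t = 0
        · subst ht
          rw [zero_smul, add_zero] at hst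
          exact ⟨(smul_eq_zero.1 hst).resolve_right hw0, rfl⟩
        · exfalso
          refine hq ?_
          have : M p = -(t⁻¹ * s) • w := by
            have h := congrArg (t⁻¹ • ·) hst
            simp only [smul_add, smul_smul, inv_mul_cancel₀ ht, one_smul, smul_zero] at h
            rw [neg_smul]
            exact eq_neg_of_add_eq_zero_right h
          rw [this]
          exact L.smul_mem _ hw
      have hspan : Submodule.span F (Set.range ![w, M p]) = P := by
        refine Submodule.eq_of_le_of_finrank_eq (Submodule.span_le.2 ?_) ?_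
        · rintro _ ⟨k, rfl⟩
          fin_cases k
          · exact hLP hw
          · exact h3 p
        · rw [finrank_span_eq_card hli, Fintype.card_fin, hd2]
      have hp' : p ∈ Submodule.span F (Set.range ![w, M p]) := hspan.symm ▸ hp
      obtain ⟨f, hf⟩ := (Submodule.mem_span_range_iff_exists_fun F).1 hp'
      rw [Fin.sum_univ_two] at hf
      simp only [Matrix.cons_val_zero, Matrix.cons_val_one] at hf
      have : M p = f 1 • M (M p) := by
        conv_lhs => rw [← hf]
        rw [map_add, map_smul, map_smul, h1 w hw, smul_zero, zero_add]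
      exact hq (by rw [hnil _ _ this]; exact L.zero_mem)
    exact ⟨fun w hw => sub_eq_zero.1 (h1 w hw), h2, h3⟩
  obtain ⟨g1, g2, g3⟩ := key g a hg hga
  obtain ⟨k1, k2, k3⟩ := key h b hh hhb
  set x := g * h with hx
  have x1 : ∀ w ∈ L, ψ x w = w := fun w hw => by rw [hx, happ, k1 w hw, g1 w hw]
  have x2 : ∀ p ∈ P, ψ x p - p ∈ L := by
    intro p hp
    have hhp : ψ h p ∈ P := by
      have := P.add_mem (hLP (k2 p hp)) hp
      rwa [sub_add_cancel] at this
    have := L.add_mem (g2 _ hhp) (k2 p hp)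
    rwa [sub_add_sub_cancel, ← happ] at this
  have x3 : ∀ v, ψ x v - v ∈ P := by
    intro v
    have := P.add_mem (g3 (ψ h v)) (k3 v)
    rwa [sub_add_sub_cancel, ← happ] at this
  have hsq : ∀ v, ψ (x * x) v - v = ψ x (ψ x v - v) - (ψ x v - v) := by
    intro v
    rw [happ, map_sub]
    have := hdouble (ψ x v - v)
    rw [← sub_eq_zero]
    rw [show ψ x (ψ x v) - v - (ψ x (ψ x v) - ψ x v - (ψ x v - v)) = (ψ x v - v) + (ψ x v - v) by abel]
    exact this
  have hsqL : ∀ v, ψ (x * x) v - v ∈ L := fun v => by rw [hsq]; exact x2 _ (x3 v)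
  have hfour : ∀ v, ψ (x * x * (x * x)) v = v := by
    intro v
    rw [happ]
    have h1 : ψ (x * x) (ψ (x * x) v - v) = ψ (x * x) v - v := by
      rw [happ, x1 _ (hsqL v), x1 _ (hsqL v)]
    rw [map_sub] at h1
    have h2 := hdouble (ψ (x * x) v - v)
    rw [← sub_eq_zero]
    calc ψ (x * x) (ψ (x * x) v) - v = (ψ (x * x) (ψ (x * x) v) - ψ (x * x) v) + (ψ (x * x) v - v) := by abel
      _ = (ψ (x * x) v - v) + (ψ (x * x) v - v) := by rw [h1]
      _ = 0 := h2
  refine hψinj (LinearMap.ext fun v => ?_)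
  rw [show x ^ 4 = x * x * (x * x) by rw [← pow_two, ← pow_two, ← pow_mul], hfour, hone]

end Linear

section Unitary

variable {n : ℕ} (hn : 2 ≤ n) (hF : Fintype.card F = (2 ^ n) ^ 2)

include hn hF

theorem charTwo_of_card : CharP F 2 := by
  refine CharTwo.of_one_ne_zero_of_two_eq_zero one_ne_zero ?_
  have h0 : ((Fintype.card F : ℕ) : F) = 0 := FiniteField.cast_card_eq_zero F
  rw [hF, ← pow_mul, Nat.cast_pow, Nat.cast_ofNat] at h0
  exact (pow_eq_zero_iff (by omega)).mp h0

/-- `PSU₃(2^n)` involves `S₃`. -/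
theorem involves_three_psu : Cfsg.Involves (Equiv.Perm (Fin 3)) (Cfsg.PSU 3 F (2 ^ n)) := by
  classical
  haveI : Fact (Nat.Prime 3) := ⟨Nat.prime_three⟩
  haveI := charTwo_of_card hn hF
  have hc := Cfsg.Lib.Classical.powConj_isConj hF
  have hσ : ∀ z : F, z ^ 2 ^ n = Cfsg.Lib.Classical.powConj hF z := fun z =>
    (Cfsg.Lib.Classical.powConj_apply hF z).symm
  obtain ⟨α, hα⟩ := hc.exists_trace_one
  set σ := Cfsg.Lib.Classical.powConj hF with hσdef
  obtain ⟨β, hβ⟩ := FiniteField.isSquare_of_char_two (ringChar.eq F 2) (1 + α * σ α)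
  have hβσ : σ β = β := by
    have h1 : σ β * σ β = β * β := by
      rw [← map_mul, ← hβ, map_add, map_one, map_mul, hc.invol, mul_comm (σ α)]
    have h2 : (σ β - β) * (σ β - β) = 0 := by
      linear_combination h1 + (-(σ β * β) + β * β) * (CharTwo.two_eq_zero (R := F))
    exact sub_eq_zero.1 (mul_self_eq_zero.1 h2)
  have hq0 : (0 : F) ^ 2 ^ n = 0 := zero_pow (by positivity)
  have hadd : ∀ y z : F, (y + z) ^ 2 ^ n = y ^ 2 ^ n + z ^ 2 ^ n := fun y z => by
    rw [hσ, hσ, hσ, map_add]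
  have h2 : (2 : F) = 0 := CharTwo.two_eq_zero
  let X : GL (Fin 2) F := Matrix.GeneralLinearGroup.mkOfDetNeZero !![α, β; β, σ α] (by
    rw [Matrix.det_fin_two_of, show α * σ α - β * β = -1 by linear_combination hβ]
    exact neg_ne_zero.2 one_ne_zero)
  let A : GL (Fin 2) F := Matrix.GeneralLinearGroup.mkOfDetNeZero !![0, 1; 1, 0] (by
    rw [Matrix.det_fin_two_of]; simp)
  have hXm : X ∈ Cfsg.GU 2 F (2 ^ n) := by
    intro u v
    show Cfsg.hermForm 2 F (2 ^ n) (!![α, β; β, σ α] *ᵥ u) (!![α, β; β, σ α] *ᵥ v) = _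
    simp only [Cfsg.hermForm, Fin.sum_univ_two, Matrix.mulVec, dotProduct]
    simp [hσ, hβσ, hc.invol, map_add, map_mul]
    linear_combination (u 0 * σ (v 0) + u 1 * σ (v 1)) * (-hβ + α * σ α * h2) +
      (β * α * (u 0 * σ (v 1)) + β * σ α * (u 1 * σ (v 0))) * h2
  have hAm : A ∈ Cfsg.GU 2 F (2 ^ n) := by
    intro u v
    show Cfsg.hermForm 2 F (2 ^ n) (!![0, 1; 1, 0] *ᵥ u) (!![0, 1; 1, 0] *ᵥ v) = _
    simp only [Cfsg.hermForm, Fin.sum_univ_two, Matrix.mulVec, dotProduct]
    simp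
    ring
  set x : Cfsg.GU 2 F (2 ^ n) := ⟨X, hXm⟩ with hxdef
  set a : Cfsg.GU 2 F (2 ^ n) := ⟨A, hAm⟩ with hadef
  have hαs : σ α = 1 + α := by linear_combination hα - α * h2
  have hx3 : x * x * x = 1 := by
    refine Subtype.ext (Units.ext ?_)
    show !![α, β; β, σ α] * !![α, β; β, σ α] * !![α, β; β, σ α] = (1 : Matrix (Fin 2) (Fin 2) F)
    have hsq : !![α, β; β, σ α] * !![α, β; β, σ α] = !![σ α, β; β, α] := by
      ext i j
      fin_cases i <;> fin_cases j <;> simp
      · linear_combination -hβ + (α + 1) * hα + (1 - σ α) * h2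
      · linear_combination β * hα
      · linear_combination β * hα
      · linear_combination -hβ + (σ α + 1) * hα + (1 - α) * h2
    rw [hsq]
    ext i j
    fin_cases i <;> fin_cases j <;> simp
    · linear_combination -hβ + (α * σ α) * h2
    · linear_combination β * σ α * h2
    · linear_combination β * α * h2
    · linear_combination -hβ + (α * σ α) * h2
  have hax : a * x = x * x * a := by
    refine Subtype.ext (Units.ext ?_)
    show !![(0 : F), 1; 1, 0] * !![α, β; β, σ α] = !![α, β; β, σ α] * !![α, β; β, σ α] * !![(0 : F), 1; 1, 0]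
    ext i j
    fin_cases i <;> fin_cases j <;> simp
    · linear_combination -β * hα
    · linear_combination hβ - (α + 1) * hα - (1 - σ α) * h2
    · linear_combination hβ - (σ α + 1) * hα - (1 - α) * h2
    · linear_combination -β * hα
  set π := Cfsg.Lib.Fusion.UnitaryThree.proj (F := F) hF with hπ
  have hx1 : π x ≠ 1 := by
    intro h
    have hcen := (QuotientGroup.eq_one_iff _).mp h
    have hcomm : x * a = a * x :=
      Cfsg.Lib.Fusion.UnitaryThree.ext_injective hF (by
        rw [map_mul, map_mul]; exact (mem_center_iff.1 hcen _).symm)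
    rw [hax] at hcomm
    have hxa : x * a = x * x * a := hcomm
    have : x = 1 := by
      have := mul_right_cancel hxa
      exact (left_eq_mul.1 this)
    have h00 := congrArg (fun M : Cfsg.GU 2 F (2 ^ n) => ((M : GL (Fin 2) F) : Matrix (Fin 2) (Fin 2) F) 0 0) this
    have h11 := congrArg (fun M : Cfsg.GU 2 F (2 ^ n) => ((M : GL (Fin 2) F) : Matrix (Fin 2) (Fin 2) F) 1 1) this
    have h00' : α = 1 := by simpa [hxdef, X] using h00
    have h11' : σ α = 1 := by simpa [hxdef, X] using h11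
    rw [h11', h00'] at hα
    exact one_ne_zero (show (1 : F) = 0 by linear_combination hα)
  have hord : orderOf (π x) = 3 := by
    refine orderOf_eq_prime ?_ hx1
    rw [← map_pow, pow_succ, pow_two, hx3, map_one]
  refine involves_of_real (x := π a) hord ?_
  rw [← map_inv, ← map_inv, ← map_mul, ← map_mul, hax, mul_inv_cancel_right,
    inv_eq_of_mul_eq_one_right (show x * (x * x) = 1 by rw [← mul_assoc, hx3])]

/-- The normaliser of a nontrivial `2`-subgroup lies in a Sylow normaliser. -/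
theorem normalizer_le_psu (T : Subgroup (Cfsg.PSU 3 F (2 ^ n))) (hT : IsPGroup 2 T) (hT1 : T ≠ ⊥) :
    ∃ S : Sylow 2 (Cfsg.PSU 3 F (2 ^ n)),
      normalizer (T : Set (Cfsg.PSU 3 F (2 ^ n))) ≤ normalizer ((S : Subgroup (Cfsg.PSU 3 F (2 ^ n))) : Set (Cfsg.PSU 3 F (2 ^ n))) := by
  classical
  haveI : Fact (Nat.Prime 2) := ⟨Nat.prime_two⟩
  haveI := charTwo_of_card hn hF
  obtain ⟨S, hTS⟩ := hT.exists_le_sylow
  obtain ⟨-, hZ, -, -, -, -, K, -, hK⟩ := Cfsg.Lib.SuzukiTwo.psu_three hn hF S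
  -- all involutions of a Sylow subgroup are central
  have hcentral : ∀ y : (S : Subgroup (Cfsg.PSU 3 F (2 ^ n))), y * y = 1 → y ∈ Subgroup.center _ := by
    intro y hy
    rcases eq_or_ne y 1 with rfl | hy1
    · exact one_mem _
    obtain ⟨z, hz⟩ := exists_prime_orderOf_dvd_card' (G := Subgroup.center (S : Subgroup (Cfsg.PSU 3 F (2 ^ n)))) 2
      (by rw [hZ]; exact dvd_pow_self 2 (by omega))
    have hz1 : (z : (S : Subgroup (Cfsg.PSU 3 F (2 ^ n)))) ≠ 1 := fun e => by
      rw [OneMemClass.coe_eq_one] at e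
      rw [e, orderOf_one] at hz
      omega
    have hz2 : (z : (S : Subgroup (Cfsg.PSU 3 F (2 ^ n)))) * z = 1 := by
      rw [← Subgroup.coe_mul, OneMemClass.coe_eq_one, ← pow_two]
      exact orderOf_dvd_iff_pow_eq_one.1 hz.dvd
    obtain ⟨k, hk, -⟩ := hK z y hz1 hz2 hy1 hy
    rw [← hk, mem_center_iff]
    intro s
    obtain ⟨s, rfl⟩ := (k : MulAut _).surjective s
    rw [← map_mul, ← map_mul, mem_center_iff.1 z.2 s]
  haveI : Nontrivial T := (nontrivial_iff_ne_bot T).2 hT1
  obtain ⟨j, hj, hjc⟩ := hT.nontrivial_iff_card.mp inferInstance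
  obtain ⟨i, hi⟩ := exists_prime_orderOf_dvd_card' (G := T) 2 (hjc ▸ dvd_pow_self 2 (by omega))
  refine ⟨S, fun g hg => ?_⟩
  refine (Sylow.smul_eq_iff_mem_normalizer (g := g) (P := S)).1 ?_
  -- the common central involution
  set t : Cfsg.PSU 3 F (2 ^ n) := g * i * g⁻¹ with htdef
  have htT : t ∈ T := (mem_normalizer_iff.1 hg i).1 i.2
  have hi2 : (i : Cfsg.PSU 3 F (2 ^ n)) * i = 1 := by
    rw [← pow_two]
    exact orderOf_dvd_iff_pow_eq_one.1 ((Subgroup.orderOf_coe i).trans hi).dvd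
  have hi1 : (i : Cfsg.PSU 3 F (2 ^ n)) ≠ 1 := fun e => by
    rw [← Subgroup.orderOf_coe, e, orderOf_one] at hi
    omega
  have ht2 : t * t = 1 := by
    rw [htdef, show g * i * g⁻¹ * (g * i * g⁻¹) = g * (i * i) * g⁻¹ by group, hi2, mul_one, mul_inv_cancel]
  have ht1 : t ≠ 1 := fun e => hi1 (conj_eq_one_iff.1 e)
  have hST : ∀ s ∈ (S : Subgroup (Cfsg.PSU 3 F (2 ^ n))), s * t = t * s := fun s hs =>
    congrArg Subtype.val (mem_center_iff.1 (hcentral ⟨t, hTS htT⟩ (Subtype.ext ht2)) ⟨s, hs⟩)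
  have hST' : ∀ s ∈ ((g • S : Sylow 2 (Cfsg.PSU 3 F (2 ^ n))) : Subgroup (Cfsg.PSU 3 F (2 ^ n))),
      s * t = t * s := by
    intro s hs
    rw [Sylow.coe_subgroup_smul, mem_smul_pointwise_iff_exists] at hs
    obtain ⟨s, hs', rfl⟩ := hs
    have h := congrArg Subtype.val (mem_center_iff.1 (hcentral ⟨i, hTS i.2⟩ (Subtype.ext hi2)) ⟨s, hs'⟩)
    simp only [Subgroup.coe_mul] at h
    show g * s * g⁻¹ * t = t * (g * s * g⁻¹)
    rw [htdef, show g * s * g⁻¹ * (g * i * g⁻¹) = g * (s * i) * g⁻¹ by group, h]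
    group
  -- the `2`-elements centralising `t` form a subgroup
  let π := QuotientGroup.mk' (Subgroup.center (Cfsg.SU 3 F (2 ^ n)))
  have hker : ∀ z ∈ π.ker, ∀ c : ℕ, orderOf z ∣ 2 ^ c → z = 1 := by
    intro z hz c hc
    rw [QuotientGroup.ker_mk'] at hz
    refine orderOf_eq_one_iff.1 (Nat.eq_one_of_dvd_coprimes (Nat.Coprime.pow_left c (by norm_num : Nat.Coprime 2 3))
      hc ((Subgroup.orderOf_mk z hz ▸ orderOf_dvd_natCard _ :
        orderOf z ∣ Nat.card (Subgroup.center (Cfsg.SU 3 F (2 ^ n)))).trans ?_))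
    rw [Cfsg.Lib.Classical.card_center_SU hF (by norm_num)]
    exact Nat.gcd_dvd_left _ _
  have hlift : ∀ (y : Cfsg.PSU 3 F (2 ^ n)) (c : ℕ), y ^ 2 ^ c = 1 →
      ∃ (Y : Cfsg.SU 3 F (2 ^ n)) (d : ℕ), π Y = y ∧ orderOf Y = 2 ^ d := by
    intro y c hy
    obtain ⟨Y, hY⟩ := QuotientGroup.mk'_surjective _ y
    obtain ⟨u, w, huz, -, huw, ⟨d, hd⟩, hwo⟩ := Cfsg.Lib.Transfer.exists_pPart 2 Y
    refine ⟨u, d, ?_, hd⟩
    have hwy : π w = (π u)⁻¹ * y := by rw [← hY, ← huw, map_mul, inv_mul_cancel_left]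
    have hcomm : Commute (π u)⁻¹ y := by
      have huY : Commute u Y := by
        obtain ⟨k, hk⟩ := mem_zpowers_iff.1 huz
        rw [← hk]; exact Commute.zpow_self Y k
      have := huY.map π
      rw [hY] at this
      exact this.inv_left
    have hpow : π w ^ 2 ^ max c d = 1 := by
      rw [hwy, hcomm.mul_pow, inv_pow, ← map_pow]
      obtain ⟨e, he⟩ := Nat.exists_eq_add_of_le (le_max_right c d)
      obtain ⟨e', he'⟩ := Nat.exists_eq_add_of_le (le_max_left c d)
      rw [show u ^ 2 ^ max c d = 1 by rw [he, pow_add, pow_mul, ← hd, pow_orderOf_eq_one, one_pow], map_one,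
        inv_one, one_mul, he', pow_add, pow_mul, hy, one_pow]
    have hw1 : π w = 1 := orderOf_eq_one_iff.1 (Nat.eq_one_of_dvd_coprimes (Nat.Coprime.pow_right _ hwo)
      (orderOf_map_dvd π w) (orderOf_dvd_of_pow_eq_one hpow))
    rw [← hY, ← huw, map_mul, hw1, mul_one]
  obtain ⟨I, d, hI, hId⟩ := hlift t 1 (by rw [pow_one, pow_two, ht2])
  have hI2 : I * I = 1 := by
    refine hker _ (by rw [MonoidHom.mem_ker, map_mul, hI, ht2]) d ?_
    rw [← pow_two, ← hId]
    exact orderOf_pow_dvd 2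
  have hI1 : I ≠ 1 := fun e => ht1 (by rw [← hI, e, map_one])
  have hprod : ∀ y z : Cfsg.PSU 3 F (2 ^ n), y * t = t * y → z * t = t * z → ∀ c e : ℕ, y ^ 2 ^ c = 1 →
      z ^ 2 ^ e = 1 → (y * z) ^ 2 ^ 2 = 1 := by
    intro y z hy hz c e hyc hze
    obtain ⟨Y, c', hY, hYc⟩ := hlift y c hyc
    obtain ⟨Z, e', hZ, hZe⟩ := hlift z e hze
    have hcom : ∀ W : Cfsg.SU 3 F (2 ^ n), π W * t = t * π W → W * I = I * W := by
      intro W hW
      have hm : W * I * W⁻¹ * I ∈ π.ker := by
        rw [MonoidHom.mem_ker, map_mul, map_mul, map_mul, map_inv, hI, hW, mul_inv_cancel_right, ht2]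
      have hm2 : (W * I * W⁻¹ * I) * (W * I * W⁻¹ * I) = 1 := by
        have hc := mem_center_iff.1 (QuotientGroup.ker_mk' (Subgroup.center (Cfsg.SU 3 F (2 ^ n))) ▸ hm :
          W * I * W⁻¹ * I ∈ Subgroup.center _)
        calc (W * I * W⁻¹ * I) * (W * I * W⁻¹ * I) = (W * I * W⁻¹) * ((W * I * W⁻¹ * I) * I) := by
              rw [← hc I]; group
          _ = (W * I * W⁻¹) * (W * I * W⁻¹) * (I * I) := by group
          _ = W * (I * I) * W⁻¹ * (I * I) := by group
          _ = 1 := by rw [hI2, mul_one, mul_one, mul_inv_cancel]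
      have hone := hker _ hm 1 (orderOf_dvd_of_pow_eq_one (by rw [pow_one, pow_two, hm2]))
      calc W * I = (W * I * W⁻¹ * I) * (I⁻¹ * W) := by group
        _ = I * W := by rw [hone, one_mul, inv_eq_of_mul_eq_one_right hI2]
    have h4 := sl_three_product (I : SL(3, F)) Y Z (congrArg Subtype.val hI2)
      (fun e => hI1 (Subtype.ext e)) (congrArg Subtype.val (hcom Y (by rw [hY]; exact hy)))
      (congrArg Subtype.val (hcom Z (by rw [hZ]; exact hz))) (a := c') (b := e')
      (by rw [← SubgroupClass.coe_pow, ← hYc, pow_orderOf_eq_one]; rfl)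
      (by rw [← SubgroupClass.coe_pow, ← hZe, pow_orderOf_eq_one]; rfl)
    rw [← hY, ← hZ, ← map_mul, ← map_pow, show (Y * Z) ^ 2 ^ 2 = 1 from Subtype.ext (by simpa using h4), map_one]
  let W : Subgroup (Cfsg.PSU 3 F (2 ^ n)) :=
    { carrier := {y | y * t = t * y ∧ ∃ c : ℕ, y ^ 2 ^ c = 1}
      one_mem' := ⟨by rw [one_mul, mul_one], 0, one_pow _⟩
      mul_mem' := by
        rintro y z ⟨hy, c, hc⟩ ⟨hz, e, he⟩
        exact ⟨by rw [mul_assoc, hz, ← mul_assoc, hy, mul_assoc], 2, hprod y z hy hz c e hc he⟩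
      inv_mem' := by
        rintro y ⟨hy, c, hc⟩
        exact ⟨(Commute.inv_left (show Commute y t from hy)).eq, c, by rw [inv_pow, hc, inv_one]⟩ }
  have hW : IsPGroup 2 W := fun y => ⟨y.2.2.choose, Subtype.ext (by simpa using y.2.2.choose_spec)⟩
  have hle : ∀ R : Sylow 2 (Cfsg.PSU 3 F (2 ^ n)), (∀ s ∈ (R : Subgroup _), s * t = t * s) →
      (R : Subgroup (Cfsg.PSU 3 F (2 ^ n))) ≤ W := by
    intro R hR s hs
    obtain ⟨c, hc⟩ := R.2 ⟨s, hs⟩
    exact ⟨hR s hs, c, congrArg Subtype.val hc⟩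
  exact Sylow.ext ((((g • S).3 hW (hle _ hST')).symm).trans (S.3 hW (hle _ hST)))

/-- `PSU₃(2^n)` has no section `S₄`. -/
theorem not_involves_four_psu : ¬ Cfsg.Involves (Equiv.Perm (Fin 4)) (Cfsg.PSU 3 F (2 ^ n)) :=
  not_involves_four_of_closed (normalizer_le_psu hn hF)

end Unitary

end Cfsg.Lib.GoldschmidtSFour
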