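import Cfsg.Agent.GoldschmidtSFour.Linear
import Cfsg.Agent.GoldschmidtSFour.Unitary
import Cfsg.Agent.GoldschmidtSFour.Janko
import Cfsg.Agent.ReeInvolveThree.Main

/-!
The sections `S₃` and `S₄` in the Goldschmidt groups, family by family.
-/

set_option autoImplicit false
set_option linter.style.haveILetI false
set_option linter.unusedSectionVars false

namespace Cfsg.Lib.GoldschmidtSFour

open Subgroup

universe u

variable {G : Type u} [Group G] [Finite G]

/-- A group of Ree type has abelian Sylow `2`-subgroups. -/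
theorem ree_sylow_comm (hR : Cfsg.IsReeType G) :
    ∃ S : Sylow 2 G, ∀ a ∈ (S : Subgroup G), ∀ b ∈ (S : Subgroup G), a * b = b * a := by
  classical
  haveI : Fact (Nat.Prime 2) := ⟨Nat.prime_two⟩
  obtain ⟨-, -, t, K, n, -, ht, hodd, ⟨hle1, hle2, hcomm, -, hsup⟩, F, hF1, hF2, hF, ⟨e⟩⟩ := hR
  set C := centralizer ({t} : Set G) with hC
  have htC : t ∈ C := hle1 (mem_zpowers t)
  haveI hcen : (zpowers (⟨t, htC⟩ : C)).Normal := ⟨fun a ha c => by
    obtain ⟨i, rfl⟩ := mem_zpowers_iff.1 ha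
    have hc : Commute c (⟨t, htC⟩ : C) := Subtype.ext (mem_centralizer_singleton_iff.1 c.2)
    rw [(hc.zpow_right i).eq, mul_inv_cancel_right]
    exact ha⟩
  obtain ⟨P⟩ : Nonempty (Sylow 2 C) := inferInstance
  have htP : (⟨t, htC⟩ : C) ∈ (P : Subgroup C) := by
    have h2 : IsPGroup 2 (zpowers (⟨t, htC⟩ : C)) :=
      IsPGroup.of_card (n := 1) (by rw [Nat.card_zpowers, ← orderOf_mk t htC] at *; exact ht)
    have h := P.3 (h2.to_sup_of_normal_left P.2) le_sup_right
    exact h ▸ le_sup_left (a := zpowers (⟨t, htC⟩ : C)) (mem_zpowers _)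
  have hidx : ¬ 2 ∣ ((P : Subgroup C).map C.subtype).index := by
    rw [index_map_subtype]
    exact fun h => (Nat.prime_two.dvd_mul.1 h).elim P.not_dvd_index hodd.not_two_dvd_nat
  refine ⟨(P.2.map C.subtype).toSylow hidx, fun a ha b hb => ?_⟩
  rw [IsPGroup.toSylow_coe] at ha hb
  obtain ⟨a, ha, rfl⟩ := ha
  obtain ⟨b, hb, rfl⟩ := hb
  -- the parts in `K`
  obtain ⟨Q, hQ⟩ := (show IsPGroup 2 (((P : Subgroup C).map C.subtype).subgroupOf K) from
    (P.2.map C.subtype).comap_of_injective K.subtype K.subtype_injective).exists_le_sylow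
  set R := Q.mapSurjective (f := e.toMonoidHom) e.surjective with hRdef
  have h8 : Fintype.card F % 8 = 3 := (Cfsg.Lib.SThreeFree.field_facts hF).2.2
  have hKcomm : ∀ x ∈ ((P : Subgroup C).map C.subtype), ∀ y ∈ ((P : Subgroup C).map C.subtype),
      x ∈ K → y ∈ K → x * y = y * x := by
    intro x hx y hy hxK hyK
    have h := sylow_comm_odd (Or.inl h8) R (e ⟨x, hxK⟩) (mem_map_of_mem e.toMonoidHom (hQ hx))
      (e ⟨y, hyK⟩) (mem_map_of_mem e.toMonoidHom (hQ hy))
    rw [← map_mul, ← map_mul] at h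
    exact congrArg Subtype.val (e.injective h)
  have key : ∀ c : C, c ∈ (P : Subgroup C) →
      ∃ k ∈ K, k ∈ (P : Subgroup C).map C.subtype ∧ ∃ z ∈ zpowers t, (c : G) = z * k := by
    intro c hc
    have hmem : (c : G) ∈ zpowers t ⊔ K := hsup.symm ▸ c.2
    have hn : K ≤ normalizer ((zpowers t : Subgroup G) : Set G) := by
      refine le_trans (fun k hk => ?_) (centralizer_le_normalizer (zpowers t : Set G))
      exact mem_centralizer_iff.2 fun a ha => hcomm a ha k hk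
    rw [← SetLike.mem_coe, Subgroup.coe_mul_of_right_le_normalizer_left _ _ hn] at hmem
    obtain ⟨z, hz, k, hk, hzk⟩ := hmem
    refine ⟨k, hk, ?_, z, hz, hzk.symm⟩
    have hzP : z ∈ (P : Subgroup C).map C.subtype :=
      (zpowers_le.2 (mem_map_of_mem C.subtype htP)) hz
    rw [show k = z⁻¹ * (c : G) by rw [← hzk]; exact (inv_mul_cancel_left z k).symm]
    exact mul_mem (inv_mem hzP) ⟨c, hc, rfl⟩
  obtain ⟨k, hk, hkP, z, hz, hza⟩ := key a ha
  obtain ⟨l, hl, hlP, w, hw, hwb⟩ := key b hb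
  obtain ⟨i, rfl⟩ := mem_zpowers_iff.1 hz
  obtain ⟨j, rfl⟩ := mem_zpowers_iff.1 hw
  have h1 : Commute k l := hKcomm k hkP l hlP hk hl
  have h2 : Commute (t ^ i) l := hcomm _ hz l hl
  have h3 : Commute k (t ^ j) := (hcomm _ hw k hk).symm
  show (a : G) * b = b * a
  rw [hza, hwb]
  exact (((Commute.refl t).zpow_zpow i j).mul_right h2).mul_left (h3.mul_right h1)

/-- A group of Ree type has no section `S₄`. -/
theorem ree_not_involves_four (hR : Cfsg.IsReeType G) : ¬ Cfsg.Involves (Equiv.Perm (Fin 4)) G := by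
  obtain ⟨S, hS⟩ := ree_sylow_comm hR
  exact not_involves_four_of_abelian S hS

/-- Suzuki groups have no section `S₃`. -/
theorem suzuki_not_involves_three (h : Cfsg.Lie.IsoSuzuki G) : ¬ Cfsg.Involves (Equiv.Perm (Fin 3)) G := by
  obtain ⟨F, hF, hF', m, hm, hc, ⟨e⟩⟩ := h
  refine not_involves_three_of_card ?_
  rw [Nat.card_congr (e.trans (Cfsg.Lib.Suz.lieEquiv ⟨hm, hc⟩).symm).toEquiv, Cfsg.Lib.Suz.card_Sz ⟨hm, hc⟩]
  have h2 : (2 ^ (2 * m + 1)) % 3 = 2 := by
    rw [pow_succ, pow_mul, Nat.mul_mod, Nat.pow_mod]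
    norm_num
  obtain ⟨j, hj⟩ : ∃ j, 2 ^ (2 * m + 1) = 3 * j + 2 := ⟨2 ^ (2 * m + 1) / 3, by omega⟩
  intro h3
  rw [hj, show 3 * j + 2 - 1 = 3 * j + 1 by omega,
    show (3 * j + 2) ^ 2 * ((3 * j + 2) ^ 2 + 1) * (3 * j + 1) =
      3 * (81 * j ^ 5 + 243 * j ^ 4 + 297 * j ^ 3 + 183 * j ^ 2 + 56 * j + 6) + 2 by ring] at h3
  omega

/-- `PSL₂(3^(2n+1))` has no section `S₃`. -/
theorem psl_three_not_involves_three {F : Type} [Field F] [Fintype F] {n : ℕ}
    (hc : Fintype.card F = 3 ^ (2 * n + 1)) (e : G ≃* Matrix.ProjectiveSpecialLinearGroup (Fin 2) F) :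
    ¬ Cfsg.Involves (Equiv.Perm (Fin 3)) G := by
  haveI : Fact (Nat.Prime 3) := ⟨Nat.prime_three⟩
  haveI : CharP F 3 := charP_of_card_eq_prime_pow hc
  exact not_involves_equiv e
    (not_involves_three_psl (by simpa using CharP.cast_eq_zero F 3) (Cfsg.Lib.SThreeFree.field_facts hc).1)

/-- The groups of the criterion have no section `S₃`. -/
theorem not_involves_three_of_family (h : Cfsg.IsSuzukiOrPSL2OddPowerThree G) :
    ¬ Cfsg.Involves (Equiv.Perm (Fin 3)) G := by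
  rcases h with h | ⟨F, hF, hF', n, hc, ⟨e⟩⟩
  · exact suzuki_not_involves_three h
  · exact psl_three_not_involves_three hc e

/-- `PSL₂(q)`, `q ≡ 3, 5 (mod 8)`, either involves `S₃` or has `q` an odd power of three. -/
theorem psl_odd_cases {F : Type} [Field F] [Fintype F] (h8 : Fintype.card F % 8 = 3 ∨ Fintype.card F % 8 = 5)
    (e : G ≃* Matrix.ProjectiveSpecialLinearGroup (Fin 2) F) :
    Cfsg.Involves (Equiv.Perm (Fin 3)) G ∨ Cfsg.IsSuzukiOrPSL2OddPowerThree G := by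
  by_cases h3 : (3 : F) = 0
  · right
    haveI : Fact (Nat.Prime 3) := ⟨Nat.prime_three⟩
    haveI : CharP F 3 := CharP.charP_iff_prime_eq_zero Nat.prime_three |>.2 (by simpa using h3)
    obtain ⟨k, -, hk⟩ := FiniteField.card F 3
    rcases Nat.even_or_odd' (k : ℕ) with ⟨j, hj | hj⟩
    · exfalso
      rw [hk, hj, pow_mul, Nat.pow_mod] at h8
      norm_num at h8
    · exact Or.inr ⟨F, inferInstance, inferInstance, j, by rw [hk, hj], ⟨e⟩⟩
  · exact Or.inl (involves_equiv e (involves_three_psl h3))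

/-- The Goldschmidt groups: no section `S₄`, and the criterion for a section `S₃`. -/
theorem main (hG : Cfsg.IsGoldschmidtGroup G) :
    ¬ Cfsg.Involves (Equiv.Perm (Fin 4)) G ∧
      (¬ Cfsg.Involves (Equiv.Perm (Fin 3)) G ↔ Cfsg.IsSuzukiOrPSL2OddPowerThree G) := by
  suffices key : ¬ Cfsg.Involves (Equiv.Perm (Fin 4)) G ∧
      (Cfsg.Involves (Equiv.Perm (Fin 3)) G ∨ Cfsg.IsSuzukiOrPSL2OddPowerThree G) from
    ⟨key.1, fun h => key.2.resolve_left h, not_involves_three_of_family⟩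
  rcases hG with h | ⟨F, hF, hF', n, hn, hc, ⟨e⟩⟩ | h | ⟨F, hF, hF', n, hn, hc, ⟨e⟩⟩ |
    ⟨F, hF, hF', q, hc, -, h8, ⟨e⟩⟩ | h
  · exact ⟨ree_not_involves_four h, Or.inl (Cfsg.Lib.ReeThree.involves_three h)⟩
  · haveI : CharP F 2 := charP_of_card_eq_prime_pow hc
    refine ⟨?_, Or.inl (involves_equiv e (involves_three_psl ?_))⟩
    · obtain ⟨S, hS⟩ := exists_sylow_comm_even (F := F) (hc ▸ dvd_pow_self 2 (by omega))
      exact not_involves_equiv e (not_involves_four_of_abelian S hS)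
    · rw [show (3 : F) = 2 + 1 by norm_num, CharTwo.two_eq_zero, zero_add]
      exact one_ne_zero
  · exact ⟨fun h4 => suzuki_not_involves_three h (three_of_four h4), Or.inr (Or.inl h)⟩
  · have hc' : Fintype.card F = (2 ^ n) ^ 2 := by rw [hc, show (4 : ℕ) = 2 ^ 2 by norm_num, ← pow_mul, ← pow_mul, mul_comm]
    exact ⟨not_involves_equiv e (not_involves_four_psu hn hc'), Or.inl (involves_equiv e (involves_three_psu hn hc'))⟩
  · subst hc
    refine ⟨?_, psl_odd_cases h8 e⟩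
    obtain ⟨S⟩ : Nonempty (Sylow 2 (Matrix.ProjectiveSpecialLinearGroup (Fin 2) F)) := inferInstance
    exact not_involves_equiv e (not_involves_four_of_abelian S (sylow_comm_odd h8 S))
  · obtain ⟨S, hS⟩ := jOne_sylow_comm h
    exact ⟨not_involves_four_of_abelian S hS, Or.inl (jOne_involves_three h)⟩

end Cfsg.Lib.GoldschmidtSFour
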