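import Cfsg.Agent.GoldschmidtSFour.Basic
import Cfsg.Agent.SThreeFree.Families
import Cfsg.Agent.Components.FrakL.Small

/-!
`PSL₂(F)`: sections `S₃`, and Sylow `2`-subgroups.
-/

set_option autoImplicit false
set_option linter.style.haveILetI false
set_option linter.unusedSectionVars false

namespace Cfsg.Lib.GoldschmidtSFour

open Subgroup Cfsg.Lib.SThreeFree

variable {F : Type*} [Field F] [Fintype F]

local notation "SL2" => Matrix.SpecialLinearGroup (Fin 2) F
local notation "PSL2" => Matrix.ProjectiveSpecialLinearGroup (Fin 2) F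

theorem exists_quadratic (h3 : (3 : F) ≠ 0) : ∃ a b : F, -(a * a) - b * (a + b) = 1 := by
  by_cases h2 : ringChar F = 2
  · haveI : CharP F 2 := h2 ▸ ringChar.charP F
    exact ⟨1, 0, by rw [zero_mul, sub_zero, one_mul, CharTwo.neg_eq]⟩
  · have h2' : (2 : F) ≠ 0 := Ring.two_ne_zero h2
    obtain ⟨x, y, hxy⟩ := FiniteField.exists_root_sum_quadratic (R := F) (f := Polynomial.X ^ 2)
      (g := Polynomial.C (3 : F) * Polynomial.X ^ 2 + Polynomial.C 4) (by simp)
      (by rw [Polynomial.degree_add_C (by rw [Polynomial.degree_C_mul_X_pow _ h3]; norm_num),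
        Polynomial.degree_C_mul_X_pow _ h3]; rfl)
      (FiniteField.odd_card_of_char_ne_two h2)
    simp only [Polynomial.eval_pow, Polynomial.eval_X, Polynomial.eval_add, Polynomial.eval_mul,
      Polynomial.eval_C] at hxy
    refine ⟨(x - y) / 2, y, ?_⟩
    field_simp
    linear_combination (-1 : F) * hxy

/-- `PSL₂(F)` involves `S₃` unless the characteristic is three. -/
theorem involves_three_psl (h3 : (3 : F) ≠ 0) : Cfsg.Involves (Equiv.Perm (Fin 3)) PSL2 := by
  haveI : Fact (Nat.Prime 3) := ⟨Nat.prime_three⟩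
  obtain ⟨a, b, hab⟩ := exists_quadratic h3
  obtain ⟨C, hC⟩ : ∃ C : SL2, (C : Matrix (Fin 2) (Fin 2) F) = !![0, -1; 1, -1] :=
    ⟨⟨!![0, -1; 1, -1], by simp [Matrix.det_fin_two]⟩, rfl⟩
  obtain ⟨A, hA⟩ : ∃ A : SL2, (A : Matrix (Fin 2) (Fin 2) F) = !![a, b; a + b, -a] :=
    ⟨⟨!![a, b; a + b, -a], by rw [Matrix.det_fin_two_of]; linear_combination hab⟩, rfl⟩
  have hC3 : C * (C * C) = 1 := by
    refine Subtype.ext (Matrix.ext fun i j => ?_)
    fin_cases i <;> fin_cases j <;> simp [Matrix.SpecialLinearGroup.coe_mul, hC]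
  have hACA : A * C = (C * C) * A := by
    refine Subtype.ext (Matrix.ext fun i j => ?_)
    fin_cases i <;> fin_cases j <;> simp [Matrix.SpecialLinearGroup.coe_mul, hA, hC] <;> ring
  have hC1 : (QuotientGroup.mk C : PSL2) ≠ 1 := by
    intro h
    rw [← QuotientGroup.mk_one, psl_eq_iff] at h
    rcases h with h | h <;>
      · have := congrArg (fun M : SL2 => (M : Matrix (Fin 2) (Fin 2) F) 1 0) h
        simp [hC] at this
  have hord : orderOf (QuotientGroup.mk C : PSL2) = 3 := by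
    refine orderOf_eq_prime ?_ hC1
    rw [← QuotientGroup.mk_pow, pow_succ, pow_two, mul_assoc, hC3, QuotientGroup.mk_one]
  refine involves_of_real (x := (QuotientGroup.mk A : PSL2)) hord ?_
  have hinv : C⁻¹ = C * C := inv_eq_of_mul_eq_one_right hC3
  rw [← QuotientGroup.mk_inv, ← QuotientGroup.mk_inv, ← QuotientGroup.mk_mul, ← QuotientGroup.mk_mul, hACA,
    mul_inv_cancel_right, hinv]

/-- In characteristic three with `-1` a non-square no element of order three is conjugate to its inverse. -/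
theorem not_involves_three_psl (h3 : (3 : F) = 0) (hns : ¬ IsSquare (-1 : F)) :
    ¬ Cfsg.Involves (Equiv.Perm (Fin 3)) PSL2 := by
  intro hi
  obtain ⟨x, y, -, hy, hxy⟩ := inverted_of_involves hi
  obtain ⟨X, rfl⟩ := QuotientGroup.mk_surjective x
  obtain ⟨Y₀, rfl⟩ := QuotientGroup.mk_surjective y
  have hY3' : Y₀ ^ 3 = 1 ∨ Y₀ ^ 3 = -1 := by
    refine (psl_eq_iff _ _).1 ?_
    rw [QuotientGroup.mk_pow, QuotientGroup.mk_one, ← hy, pow_orderOf_eq_one]
  -- choose the lift of order three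
  obtain ⟨Y, hYe, hY3⟩ : ∃ Y : SL2, (QuotientGroup.mk Y : PSL2) = QuotientGroup.mk Y₀ ∧ Y ^ 3 = 1 := by
    rcases hY3' with h | h
    · exact ⟨Y₀, rfl, h⟩
    · refine ⟨-Y₀, (psl_eq_iff _ _).2 (Or.inr rfl), ?_⟩
      rw [Odd.neg_pow (by decide), h, neg_neg]
  rw [← hYe] at hy hxy
  have hY1 : (QuotientGroup.mk Y : PSL2) ≠ 1 := fun h => by rw [h, orderOf_one] at hy; omega
  rw [← QuotientGroup.mk_inv, ← QuotientGroup.mk_inv, ← QuotientGroup.mk_mul, ← QuotientGroup.mk_mul,
    psl_eq_iff] at hxy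
  have hYi : Y⁻¹ = Y * Y := inv_eq_of_mul_eq_one_right (by rw [← hY3, pow_succ, pow_two, mul_assoc])
  rw [hYi] at hxy
  obtain ⟨ε, hε, hrel⟩ : ∃ ε : F, (ε = 1 ∨ ε = -1) ∧
      (X : Matrix (Fin 2) (Fin 2) F) * Y = ε • ((Y : Matrix (Fin 2) (Fin 2) F) * Y * X) := by
    rcases hxy with h | h
    · refine ⟨1, Or.inl rfl, ?_⟩
      rw [one_smul, ← Matrix.SpecialLinearGroup.coe_mul, ← Matrix.SpecialLinearGroup.coe_mul,
        ← Matrix.SpecialLinearGroup.coe_mul, mul_inv_eq_iff_eq_mul.1 h]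
    · refine ⟨-1, Or.inr rfl, ?_⟩
      rw [neg_smul, one_smul, ← Matrix.SpecialLinearGroup.coe_mul, ← Matrix.SpecialLinearGroup.coe_mul,
        ← Matrix.SpecialLinearGroup.coe_mul, ← Matrix.SpecialLinearGroup.coe_neg, mul_inv_eq_iff_eq_mul.1 h,
        neg_mul]
  obtain ⟨p, r, s, u, hX⟩ : ∃ p r s u : F, (X : Matrix (Fin 2) (Fin 2) F) = !![p, r; s, u] :=
    ⟨_, _, _, _, Matrix.eta_fin_two _⟩
  obtain ⟨A, B, C, D, hY⟩ : ∃ A B C D : F, (Y : Matrix (Fin 2) (Fin 2) F) = !![A, B; C, D] :=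
    ⟨_, _, _, _, Matrix.eta_fin_two _⟩
  have hdX : p * u - r * s = 1 := by
    have := X.2; rwa [hX, Matrix.det_fin_two_of] at this
  have hdY : A * D - B * C = 1 := by
    have := Y.2; rwa [hY, Matrix.det_fin_two_of] at this
  have h3' : (Y : Matrix (Fin 2) (Fin 2) F) * ((Y : Matrix (Fin 2) (Fin 2) F) * Y) = 1 := by
    rw [← Matrix.SpecialLinearGroup.coe_mul, ← Matrix.SpecialLinearGroup.coe_mul, ← mul_assoc, ← pow_two,
      ← pow_succ, hY3, Matrix.SpecialLinearGroup.coe_one]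
  have hne : ¬ (B = 0 ∧ C = 0 ∧ A = D) := by
    rintro ⟨rfl, rfl, rfl⟩
    refine hY1 ((QuotientGroup.eq_one_iff Y).2 (Matrix.SpecialLinearGroup.mem_center_iff.2 ⟨A, ?_, ?_⟩))
    · rw [Fintype.card_fin, pow_two]; linear_combination hdY
    · rw [hY]; ext i j; fin_cases i <;> fin_cases j <;> simp
  rw [hY] at h3'
  rw [hX, hY] at hrel
  have e00 := congrFun (congrFun h3' 0) 0
  have e01 := congrFun (congrFun h3' 0) 1
  have e10 := congrFun (congrFun h3' 1) 0
  have e11 := congrFun (congrFun h3' 1) 1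
  simp [Matrix.mul_apply, Fin.sum_univ_two] at e00 e01 e10 e11
  -- the trace of `Y` is `-1`
  have hT : A + D = -1 := by
    by_contra hT
    by_cases hT1 : A + D = 1
    · obtain rfl : D = 1 - A := by linear_combination hT1
      have h00 : (-1 : F) = 1 := by linear_combination e00 + (A + 1) * hdY
      exact hns ⟨1, by rw [mul_one]; exact h00⟩
    · have hfac : (A + D - 1) * (A + D + 1) ≠ 0 :=
        mul_ne_zero (sub_ne_zero.2 hT1) (fun h => hT (eq_neg_of_add_eq_zero_left h))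
      refine hne ⟨?_, ?_, ?_⟩
      · refine (mul_eq_zero.1 (show (A + D - 1) * (A + D + 1) * B = 0 by
          linear_combination e01 + B * hdY)).resolve_left hfac
      · refine (mul_eq_zero.1 (show (A + D - 1) * (A + D + 1) * C = 0 by
          linear_combination e10 + C * hdY)).resolve_left hfac
      · refine sub_eq_zero.1 ((mul_eq_zero.1 (show (A + D - 1) * (A + D + 1) * (A - D) = 0 by
          linear_combination e00 - e11 + (A - D) * hdY)).resolve_left hfac)
  obtain ⟨a, rfl⟩ : ∃ a, A = 1 + a := ⟨A - 1, by ring⟩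
  obtain rfl : D = 1 - a := by linear_combination hT - h3
  have hN : a * a + B * C = 0 := by linear_combination -hdY
  have r00 := congrFun (congrFun hrel 0) 0
  have r01 := congrFun (congrFun hrel 0) 1
  have r10 := congrFun (congrFun hrel 1) 0
  have r11 := congrFun (congrFun hrel 1) 1
  simp [Matrix.mul_apply, Fin.sum_univ_two] at r00 r01 r10 r11
  rcases hε with rfl | rfl
  · -- `X N X⁻¹ = -N`
    have q00 : 2 * a * p + r * C + B * s = 0 := by
      linear_combination r00 + (p * (1 : F)) * hN + (a * p + B * s) * h3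
    have q01 : B * (p + u) = 0 := by
      linear_combination r01 + r * hN + (a * r + B * u) * h3
    have q10 : C * (p + u) = 0 := by
      linear_combination r10 + s * hN + (C * p - a * s) * h3
    have hBC : B ≠ 0 ∨ C ≠ 0 := by
      by_contra! h
      have ha : a = 0 := by
        refine mul_self_eq_zero.1 ?_
        linear_combination hN - B * h.2
      exact hne ⟨h.1, h.2, by rw [ha]; ring⟩
    have hu : u = -p := by
      rcases hBC with h | h
      · exact eq_neg_of_add_eq_zero_right ((mul_eq_zero.1 q01).resolve_left h)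
      · exact eq_neg_of_add_eq_zero_right ((mul_eq_zero.1 q10).resolve_left h)
    subst hu
    by_cases hB : B = 0
    · subst hB
      have hC : C ≠ 0 := hBC.resolve_left (by simp)
      have ha : a = 0 := mul_self_eq_zero.1 (by linear_combination hN)
      subst ha
      have hr : r = 0 := (mul_eq_zero.1 (show r * C = 0 by linear_combination q00)).resolve_right hC
      exact hns ⟨p, by linear_combination hdX + s * hr⟩
    · refine hns ⟨(B * p - a * r) / B, ?_⟩
      field_simp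
      linear_combination B ^ 2 * hdX + r * B * q00 - r ^ 2 * hN
  · -- the trace shows that the sign is positive
    exfalso
    have ht : ((1 + a) + (1 - a)) * (p * u - r * s) = -(((1 + a) + (1 - a)) * ((1 + a) + (1 - a)) - 2 *
        ((1 + a) * (1 - a) - B * C)) * (p * u - r * s) := by
      linear_combination u * r00 - s * r01 - r * r10 + p * r11
    rw [hdX, hdY] at ht
    exact hns ⟨1, by linear_combination ht - h3 - h3⟩

/-- Sylow `2`-subgroups of `PSL₂(q)` for `q ≡ ±3 (mod 8)` have order at most four. -/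
theorem sylow_comm_odd (h : Fintype.card F % 8 = 3 ∨ Fintype.card F % 8 = 5) (S : Sylow 2 PSL2) :
    ∀ a ∈ (S : Subgroup PSL2), ∀ b ∈ (S : Subgroup PSL2), a * b = b * a := by
  haveI : Fact (Nat.Prime 2) := ⟨Nat.prime_two⟩
  obtain ⟨k, hk⟩ := S.2.exists_card_eq
  have hd : 2 ^ k ∣ Nat.card PSL2 := hk ▸ card_subgroup_dvd_card _
  have hc := Cfsg.Lib.Classical.SmallPSL.card_psl (F := F) rfl
  rw [Nat.gcd_eq_left (show 2 ∣ Fintype.card F - 1 by omega)] at hc
  have hk2 : k ≤ 2 := by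
    by_contra hk3
    have h8 : 2 ^ 3 ∣ Nat.card PSL2 := (pow_dvd_pow 2 (by omega)).trans hd
    have h16 : 16 ∣ Fintype.card F * (Fintype.card F ^ 2 - 1) := by
      rw [← hc]; exact mul_dvd_mul_left 2 h8
    have : (Fintype.card F * (Fintype.card F ^ 2 - 1)) % 16 ≠ 0 := by
      obtain ⟨j, i, hj, hq⟩ : ∃ j i, (i = 3 ∨ i = 5 ∨ i = 11 ∨ i = 13) ∧ Fintype.card F = 16 * j + i :=
        ⟨Fintype.card F / 16, Fintype.card F % 16, by omega, by omega⟩
      rw [hq, show (16 * j + i) ^ 2 = 16 * (16 * j ^ 2 + 2 * j * i) + i ^ 2 by ring,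
        Nat.add_sub_assoc (Nat.one_le_pow _ _ (by omega))]
      generalize 16 * j ^ 2 + 2 * j * i = M
      rw [show (16 * j + i) * (16 * M + (i ^ 2 - 1)) =
        16 * (j * (16 * M + (i ^ 2 - 1)) + i * M) + i * (i ^ 2 - 1) by ring, Nat.mul_add_mod]
      rcases hj with rfl | rfl | rfl | rfl <;> norm_num
    exact this (Nat.dvd_iff_mod_eq_zero.1 h16)
  intro a ha b hb
  have key : IsMulCommutative (S : Subgroup PSL2) := by
    rcases (show k = 0 ∨ k = 1 ∨ k = 2 by omega) with rfl | rfl | rfl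
    · haveI : Subsingleton (S : Subgroup PSL2) := (Nat.card_eq_one_iff_unique.1 (by rw [hk, pow_zero])).1
      exact ⟨⟨fun _ _ => Subsingleton.elim _ _⟩⟩
    · haveI := isCyclic_of_prime_card (α := (S : Subgroup PSL2)) (p := 2) (by rw [hk, pow_one])
      exact IsCyclic.isMulCommutative
    · exact IsPGroup.isMulCommutative_of_card_eq_prime_sq hk
  exact congrArg Subtype.val (key.is_comm.comm ⟨a, ha⟩ ⟨b, hb⟩)

/-- Sylow `2`-subgroups of `PSL₂(2^n)` are abelian. -/
theorem exists_sylow_comm_even (h : 2 ∣ Fintype.card F) :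
    ∃ S : Sylow 2 PSL2, ∀ a ∈ (S : Subgroup PSL2), ∀ b ∈ (S : Subgroup PSL2), a * b = b * a := by
  haveI : Fact (Nat.Prime 2) := ⟨Nat.prime_two⟩
  obtain ⟨P⟩ : Nonempty (Sylow 2 SL2) := inferInstance
  have hs : Function.Surjective (QuotientGroup.mk' (Subgroup.center SL2) : SL2 →* PSL2) :=
    QuotientGroup.mk'_surjective _
  refine ⟨P.mapSurjective hs, ?_⟩
  obtain ⟨g, hg⟩ := Cfsg.Lib.FrakL.sl2_le_up h (P : Subgroup SL2) P.2
  rintro _ ⟨x, hx, rfl⟩ _ ⟨y, hy, rfl⟩
  obtain ⟨x', ⟨s, rfl⟩, ex⟩ := hg hx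
  obtain ⟨y', ⟨t, rfl⟩, ey⟩ := hg hy
  rw [← map_mul, ← map_mul]
  congr 1
  rw [← ex, ← ey, ← map_mul, ← map_mul, Cfsg.Lib.FrakL.up_mul, Cfsg.Lib.FrakL.up_mul, add_comm]

end Cfsg.Lib.GoldschmidtSFour
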